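import Groth.Agent.FlatMor2.WeaklyEtaleStalk
import Groth.Agent.Hensel1.Std
import Groth.Agent.S0754
import Groth.Agent.S0427
import Groth.Agent.S1974
import Groth.Agent.S0537

/-!
# Weakly étale morphisms are those with the same strict henselizations
-/

set_option autoImplicit false
set_option linter.style.haveILetI false
set_option linter.overlappingInstances false

universe u

open AlgebraicGeometry CategoryTheory Limits IsLocalRing TensorProduct

namespace Groth.FlatMor2.WeaklyEtaleHens

/-- Strict henselizations are weakly étale. -/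
theorem weaklyEtale_of_isStrictHenselization (A R : Type u) [CommRing A] [IsLocalRing A] [CommRing R]
    [IsLocalRing R] [Algebra A R] [IsLocalHom (algebraMap A R)] [Hensel.IsStrictHenselization A R] :
    Algebra.WeaklyEtale A R :=
  Groth.EtaleDeep.IndEt.weaklyEtale (Groth.HensPair.isIndEtale_of_hensModel
    (Groth.Hensel1.hensModel_of_isStrictHenselization (R := A) (S := R)).some)

/-- The residue extension of a weakly étale local homomorphism is separable. -/
theorem isSeparable_residueField (A R : Type u) [CommRing A] [IsLocalRing A] [CommRing R]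
    [IsLocalRing R] [Algebra A R] [IsLocalHom (algebraMap A R)] [Algebra.WeaklyEtale A R] :
    Algebra.IsSeparable (ResidueField A) (ResidueField R) := by
  let φ : ResidueField A ⊗[A] R →ₐ[ResidueField A] ResidueField R :=
    Algebra.TensorProduct.lift (Algebra.ofId _ _) (IsScalarTower.toAlgHom A R (ResidueField R))
      fun _ _ => .all _ _
  refine ⟨fun z => ?_⟩
  obtain ⟨r, rfl⟩ := residue_surjective z
  obtain ⟨f, hf, hz⟩ :=
    (Groth.EtaleAlgebra.isSepElem_of_weaklyEtale (K := ResidueField A) ((1 : ResidueField A) ⊗ₜ[A] r)).map φ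
  have : φ ((1 : ResidueField A) ⊗ₜ[A] r) = residue R r := by simp [φ]
  rw [this] at hz
  exact hf.of_dvd (minpoly.dvd _ _ hz)

/-- Being a strict henselization passes along an isomorphism. -/
theorem isStrictHenselization_of_algEquiv {A S R : Type u} [CommRing A] [IsLocalRing A] [CommRing S]
    [IsLocalRing S] [Algebra A S] [IsLocalHom (algebraMap A S)] [CommRing R] [IsLocalRing R]
    [Algebra A R] [IsLocalHom (algebraMap A R)] [hS : Hensel.IsStrictHenselization A S]
    [HenselianLocalRing R] [IsSepClosure (ResidueField A) (ResidueField R)] (g : S ≃ₐ[A] R) :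
    Hensel.IsStrictHenselization A R where
  henselian := inferInstance
  isSepClosure := inferInstance
  universal T _ _ f _ τ hτ := by
    haveI : IsLocalHom g.toRingEquiv.toRingHom := ⟨fun a ha => by simpa using ha.map g.symm⟩
    let ρ : ResidueField S →+* ResidueField R := ResidueField.map g.toRingEquiv.toRingHom
    have hρ : ∀ x, ρ (residue S x) = residue R (g x) := fun x => ResidueField.map_residue _ x
    obtain ⟨h, ⟨h1, h2⟩, huniq⟩ := hS.universal T f (τ.comp ρ) (RingHom.ext fun z => by
      obtain ⟨a, rfl⟩ := residue_surjective z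
      show τ (ρ (ResidueField.map (algebraMap A S) (residue A a))) = _
      rw [ResidueField.map_residue, hρ, AlgEquiv.commutes, ← ResidueField.map_residue]
      exact RingHom.congr_fun hτ _)
    refine ⟨h.comp g.symm.toRingEquiv.toRingHom, ⟨RingHom.ext fun a => ?_, fun x => ?_⟩, ?_⟩
    · show h (g.symm (algebraMap A R a)) = f a
      rw [AlgEquiv.commutes]
      exact RingHom.congr_fun h1 a
    · show residue T (h (g.symm x)) = τ (residue R x)
      rw [h2, RingHom.comp_apply, hρ, AlgEquiv.apply_symm_apply]
    · rintro k ⟨k1, k2⟩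
      have := huniq (k.comp g.toRingEquiv.toRingHom) ⟨RingHom.ext fun a => by
          show k (g (algebraMap A S a)) = f a
          rw [AlgEquiv.commutes]
          exact RingHom.congr_fun k1 a, fun x => by
          show residue T (k (g x)) = τ (ρ (residue S x))
          rw [k2, hρ]⟩
      rw [← this]
      refine RingHom.ext fun x => ?_
      show k x = k (g (g.symm x))
      rw [AlgEquiv.apply_symm_apply]

/-- A strict henselization of a weakly étale local algebra is one of the base. -/
theorem isStrictHenselization_of_weaklyEtale (A B R : Type u) [CommRing A] [IsLocalRing A]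
    [CommRing B] [IsLocalRing B] [CommRing R] [IsLocalRing R] [Algebra A B] [Algebra B R] [Algebra A R]
    [IsScalarTower A B R] [IsLocalHom (algebraMap A B)] [IsLocalHom (algebraMap B R)]
    [IsLocalHom (algebraMap A R)] [Algebra.WeaklyEtale A B] [hR : Hensel.IsStrictHenselization B R] :
    Hensel.IsStrictHenselization A R := by
  haveI := hR.henselian
  haveI := hR.isSepClosure
  haveI : IsSepClosed (ResidueField R) :=
    IsSepClosure.sep_closed (k := ResidueField B) (K := ResidueField R)
  haveI := weaklyEtale_of_isStrictHenselization B R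
  haveI : Algebra.WeaklyEtale A R := Algebra.WeaklyEtale.trans A B R
  haveI := isSeparable_residueField A R
  haveI : IsSepClosure (ResidueField A) (ResidueField R) := ⟨inferInstance, inferInstance⟩
  haveI hH := Groth.Hensel1.isStrictHenselization_hens A (ResidueField R)
  obtain ⟨g, hg, -⟩ := Groth.Hensel1.Hens.existsUnique_lift (R := A) (Ω := ResidueField R) (T := R)
    (RingHom.id _) (fun _ => rfl)
  letI : Algebra (Groth.Hensel1.Hens A (ResidueField R)) R := g.toRingHom.toAlgebra
  haveI : IsScalarTower A (Groth.Hensel1.Hens A (ResidueField R)) R :=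
    IsScalarTower.of_algebraMap_eq fun a => (g.commutes a).symm
  haveI : IsLocalHom (algebraMap (Groth.Hensel1.Hens A (ResidueField R)) R) := ⟨fun x hx => by
    by_contra hu
    have h0 : x ∈ maximalIdeal _ := hu
    rw [Groth.Hensel1.Hens.mem_maximalIdeal_iff] at h0
    have h1 : residue R (g x) = 0 := by rw [hg]; exact h0
    rw [residue_eq_zero_iff] at h1
    exact h1 hx⟩
  haveI := weaklyEtale_of_isStrictHenselization A (Groth.Hensel1.Hens A (ResidueField R))
  haveI := Groth.EtaleAlgebra.weaklyEtale_of_tower A (Groth.Hensel1.Hens A (ResidueField R)) R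
  haveI : IsSepClosed (ResidueField (Groth.Hensel1.Hens A (ResidueField R))) :=
    IsSepClosure.sep_closed (k := ResidueField A) (self := hH.isSepClosure)
  exact isStrictHenselization_of_algEquiv (AlgEquiv.ofBijective g
    (Groth.EtaleDeep.Olivier.bijective_of_weaklyEtale
      (A := Groth.Hensel1.Hens A (ResidueField R)) (B := R)))

/-- A morphism is weakly étale iff it preserves strict henselizations of local rings. -/
theorem weaklyEtale_iff {X Y : Scheme.{u}} (f : X ⟶ Y) :
    WeaklyEtale f ↔ ∀ (x : X) (R : Type u) [CommRing R] [IsLocalRing R] [Algebra ↑(X.presheaf.stalk x) R]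
      [IsLocalHom (algebraMap ↑(X.presheaf.stalk x) R)] [Hensel.IsStrictHenselization ↑(X.presheaf.stalk x) R],
      letI : Algebra ↑(Y.presheaf.stalk (f x)) R := ((algebraMap ↑(X.presheaf.stalk x) R).comp (f.stalkMap x).hom).toAlgebra
      ∃ _ : IsLocalHom (algebraMap ↑(Y.presheaf.stalk (f x)) R), Hensel.IsStrictHenselization ↑(Y.presheaf.stalk (f x)) R := by
  rw [Groth.FlatMor2.weaklyEtale_iff_stalkMap]
  refine forall_congr' fun x => ?_
  letI : Algebra (Y.presheaf.stalk (f x)) (X.presheaf.stalk x) := (f.stalkMap x).hom.toAlgebra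
  haveI : IsLocalHom (algebraMap (Y.presheaf.stalk (f x)) (X.presheaf.stalk x)) :=
    inferInstanceAs (IsLocalHom (f.stalkMap x).hom)
  constructor
  · intro h R _ _ _ _ _
    haveI : Algebra.WeaklyEtale (Y.presheaf.stalk (f x)) (X.presheaf.stalk x) :=
      Groth.FlatMor2.isWeaklyEtaleHom_iff.1 h
    letI : Algebra (Y.presheaf.stalk (f x)) R :=
      ((algebraMap (X.presheaf.stalk x) R).comp (f.stalkMap x).hom).toAlgebra
    haveI : IsScalarTower (Y.presheaf.stalk (f x)) (X.presheaf.stalk x) R :=
      IsScalarTower.of_algebraMap_eq' rfl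
    haveI hl : IsLocalHom (algebraMap (Y.presheaf.stalk (f x)) R) :=
      RingHom.isLocalHom_comp (algebraMap (X.presheaf.stalk x) R) (f.stalkMap x).hom
    exact ⟨hl, isStrictHenselization_of_weaklyEtale _ (X.presheaf.stalk x) R⟩
  · intro h
    obtain ⟨R, _, _, _, _, hR⟩ := Groth.Agent.S0537.result (X.presheaf.stalk x)
    obtain ⟨hl, hh⟩ := h R
    letI : Algebra (Y.presheaf.stalk (f x)) R :=
      ((algebraMap (X.presheaf.stalk x) R).comp (f.stalkMap x).hom).toAlgebra
    haveI : IsScalarTower (Y.presheaf.stalk (f x)) (X.presheaf.stalk x) R :=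
      IsScalarTower.of_algebraMap_eq' rfl
    haveI := hl
    haveI := hh
    haveI := weaklyEtale_of_isStrictHenselization (Y.presheaf.stalk (f x)) R
    haveI hw := weaklyEtale_of_isStrictHenselization (X.presheaf.stalk x) R
    haveI := hw.flat
    haveI : Module.FaithfullyFlat (X.presheaf.stalk x) R :=
      Module.FaithfullyFlat.of_flat_of_isLocalHom
    exact Groth.FlatMor2.isWeaklyEtaleHom_iff.2
      (Groth.EtaleAlgebra.weaklyEtale_of_faithfullyFlat _ (X.presheaf.stalk x) R)

end Groth.FlatMor2.WeaklyEtaleHens
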